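import Groth.Agent.GrpSchLib.FieldTop
import Groth.Agent.GrpSchLib.GeomIrr
import Groth.Agent.Lib.UncountableAvoid

/-! The component through the origin of a subgroup which is a countable union of closed subsets. -/

set_option autoImplicit false
set_option backward.isDefEq.respectTransparency false
set_option backward.isDefEq.respectTransparency.types false

universe u

open CategoryTheory Limits MonoidalCategory CartesianMonoidalCategory AlgebraicGeometry MonObj GrpObj TopologicalSpace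

namespace Groth.Agent.GrpdSubVar

open GrpSchLib

variable {k : Type u} [Field k] [IsAlgClosed k] {A : Over (Spec (CommRingCat.of k))}

local notation "Pt" => (𝟙_ (Over (Spec (CommRingCat.of k))) ⟶ A)

/-- The underlying point of a rational point. -/
noncomputable def pt (x : 𝟙_ (Over (Spec (CommRingCat.of k))) ⟶ A) : A.left :=
  x.left (IsLocalRing.closedPoint k)

theorem range_subset_iff (x : Pt) (T : Set A.left) : Set.range x.left.base ⊆ T ↔ pt x ∈ T := by
  constructor
  · exact fun h => h ⟨_, rfl⟩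
  · rintro h _ ⟨y, rfl⟩
    rw [@Subsingleton.elim _ (inferInstanceAs (Subsingleton ↥(Spec (CommRingCat.of k)))) y (IsLocalRing.closedPoint k)]
    exact h

theorem exists_pt [LocallyOfFiniteType A.hom] {a : A.left} (ha : IsClosed {a}) : ∃ x : Pt, pt x = a := by
  let s := (pointEquivClosedPoint A.hom).symm ⟨a, ha⟩
  exact ⟨Over.homMk s.1 s.2, congrArg Subtype.val ((pointEquivClosedPoint A.hom).apply_symm_apply ⟨a, ha⟩)⟩

theorem isClosed_pt [LocallyOfFiniteType A.hom] (x : Pt) : IsClosed {pt x} :=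
  (pointEquivClosedPoint A.hom ⟨x.left, Over.w x⟩).2

variable [GrpObj A]

/-- Irreducible closed subsets all whose rational points lie in `K`. -/
def Adm (K : Subgroup (𝟙_ (Over (Spec (CommRingCat.of k))) ⟶ A)) (T : Closeds A.left) : Prop :=
  IsIrreducible (T : Set A.left) ∧
    ∀ x : 𝟙_ (Over (Spec (CommRingCat.of k))) ⟶ A, Set.range x.left.base ⊆ (T : Set A.left) → x ∈ K

theorem exists_product [IsProper A.hom] (K : Subgroup Pt) {T₁ T₂ : Closeds A.left} (h₁ : Adm K T₁) (h₂ : Adm K T₂) :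
    ∃ T : Closeds A.left, Adm K T ∧
      ∀ x y : Pt, pt x ∈ T₁ → pt y ∈ T₂ → pt (x * y⁻¹) ∈ T := by
  haveI : QuasiSeparatedSpace A.left := inferInstance
  obtain ⟨Y₁, j₁, hj₁, hr₁⟩ := exists_over_range_eq (T₁ : Set A.left) T₁.isClosed
  obtain ⟨Y₂, j₂, hj₂, hr₂⟩ := exists_over_range_eq (T₂ : Set A.left) T₂.isClosed
  haveI := hj₁; haveI := hj₂
  haveI := irreducibleSpace_of_range j₁ (hr₁ ▸ h₁.1)
  haveI := irreducibleSpace_of_range j₂ (hr₂ ▸ h₂.1)
  haveI : IsProper Y₁.hom := by rw [← Over.w j₁]; infer_instance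
  haveI : IsProper Y₂.hom := by rw [← Over.w j₂]; infer_instance
  haveI := geometricallyIrreducible_of_isAlgClosed Y₁.hom
  haveI hirr : IrreducibleSpace (Y₁ ⊗ Y₂).left := inferInstanceAs (IrreducibleSpace ↥(pullback Y₁.hom Y₂.hom))
  let d : Y₁ ⊗ Y₂ ⟶ A := (fst Y₁ Y₂ ≫ j₁) * (snd Y₁ Y₂ ≫ j₂)⁻¹
  haveI : IsProper (Y₁ ⊗ Y₂).hom := by rw [Over.tensorObj_hom]; infer_instance
  haveI : IsProper (d.left ≫ A.hom) := by rw [Over.w d]; infer_instance
  haveI : IsProper d.left := IsProper.of_comp d.left A.hom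
  refine ⟨⟨Set.range d.left, d.left.isClosedMap.isClosed_range⟩, ⟨?_, fun x hx => ?_⟩, fun x y hx hy => ?_⟩
  · show IsIrreducible (Set.range d.left)
    rw [← Set.image_univ]
    exact (IrreducibleSpace.isIrreducible_univ _).image _ d.left.continuous.continuousOn
  · haveI : JacobsonSpace (Y₁ ⊗ Y₂).left := LocallyOfFiniteType.jacobsonSpace (Y₁ ⊗ Y₂).hom
    rw [range_subset_iff] at hx
    obtain ⟨z₀, hz₀⟩ := hx
    obtain ⟨z, hz, hzc⟩ := nonempty_inter_closedPoints (Z := d.left ⁻¹' {pt x}) ⟨z₀, hz₀⟩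
      ((isClosed_pt x).preimage d.left.continuous).isLocallyClosed
    obtain ⟨w, hw⟩ := exists_pt (A := Y₁ ⊗ Y₂) hzc
    have hwd : w ≫ d = x := by
      apply Over.OverMorphism.ext
      refine ext_of_apply_closedPoint_eq A.hom (Over.w _) (Over.w _) ?_
      show d.left (pt w) = pt x
      rw [hw]
      exact hz
    rw [← hwd, show w ≫ d = ((w ≫ fst Y₁ Y₂) ≫ j₁) * ((w ≫ snd Y₁ Y₂) ≫ j₂)⁻¹ by
      simp only [d, MonObj.comp_mul, GrpObj.comp_inv, Category.assoc]]
    refine K.mul_mem (h₁.2 _ ?_) (K.inv_mem (h₂.2 _ ?_))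
    · rw [range_subset_iff, ← hr₁]; exact ⟨_, rfl⟩
    · rw [range_subset_iff, ← hr₂]; exact ⟨_, rfl⟩
  · show pt (x * y⁻¹) ∈ Set.range d.left
    obtain ⟨z₁, hz₁⟩ : pt x ∈ Set.range j₁.left := by rw [hr₁]; exact hx
    obtain ⟨z₂, hz₂⟩ : pt y ∈ Set.range j₂.left := by rw [hr₂]; exact hy
    have lift_pt : ∀ {Y : Over (Spec (CommRingCat.of k))} (j : Y ⟶ A) [IsClosedImmersion j.left] (x : Pt)
        (z : Y.left), j.left z = pt x → ∃ x' : 𝟙_ (Over (Spec (CommRingCat.of k))) ⟶ Y, x' ≫ j = x := by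
      intro Y j _ x z hz
      haveI : LocallyOfFiniteType Y.hom := by rw [← Over.w j]; infer_instance
      have hzc : IsClosed ({z} : Set Y.left) := by
        have := (isClosed_pt x).preimage j.left.continuous
        rwa [← hz, ← Set.image_singleton, Set.preimage_image_eq _ j.left.isClosedEmbedding.injective] at this
      obtain ⟨x', hx'⟩ := exists_pt (A := Y) hzc
      refine ⟨x', Over.OverMorphism.ext (ext_of_apply_closedPoint_eq A.hom (Over.w _) (Over.w _) ?_)⟩
      show j.left (pt x') = pt x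
      rw [hx', hz]
    obtain ⟨x', hx'⟩ := lift_pt j₁ x z₁ hz₁
    obtain ⟨y', hy'⟩ := lift_pt j₂ y z₂ hz₂
    refine ⟨pt (lift x' y'), ?_⟩
    have e : lift x' y' ≫ d = x * y⁻¹ := by
      simp only [d, MonObj.comp_mul, GrpObj.comp_inv, lift_fst_assoc, lift_snd_assoc, hx', hy']
    exact congrArg pt e

theorem exists_subset_of_adm [Uncountable k] [LocallyOfFiniteType A.hom] (K : Subgroup Pt) (Z : ℕ → Closeds A.left)
    (hK : ∀ x : Pt, x ∈ K ↔ Set.range x.left.base ⊆ ⋃ n, (Z n : Set A.left)) {T : Closeds A.left} (hT : Adm K T) :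
    ∃ n, (T : Set A.left) ⊆ (Z n : Set A.left) := by
  by_contra! h
  obtain ⟨a, haT, hac, haZ⟩ :=
    UncountableAvoid.exists_closedPoint_avoid k A.left A.hom (T : Set A.left) T.isClosed hT.1 Z h
  obtain ⟨x, rfl⟩ := exists_pt hac
  have := (hK x).1 (hT.2 x ((range_subset_iff x _).2 haT))
  rw [range_subset_iff, Set.mem_iUnion] at this
  obtain ⟨n, hn⟩ := this
  exact haZ n hn

theorem main [Uncountable k] [IsProper A.hom] (K : Subgroup Pt) (Z : ℕ → Closeds A.left)
    (hK : ∀ x : Pt, x ∈ K ↔ Set.range x.left.base ⊆ ⋃ n, (Z n : Set A.left)) :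
    (∃! T : Closeds A.left, Maximal (Adm K) T ∧ Set.range (1 : Pt).left.base ⊆ (T : Set A.left)) ∧
    ∀ T : Closeds A.left, Maximal (Adm K) T → Set.range (1 : Pt).left.base ⊆ (T : Set A.left) →
      (∃ n, (T : Set A.left) ⊆ (Z n : Set A.left)) ∧
      ∀ x y : Pt, Set.range x.left.base ⊆ (T : Set A.left) → Set.range y.left.base ⊆ (T : Set A.left) →
        Set.range (x * y⁻¹).left.base ⊆ (T : Set A.left) := by
  simp only [range_subset_iff]
  -- two admissible sets through the origin lie in a common one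
  have key : ∀ T T' : Closeds A.left, Maximal (Adm K) T → Adm K T' → pt (1 : Pt) ∈ T → pt (1 : Pt) ∈ T' →
      T' ≤ T ∧ ∀ x y : Pt, pt x ∈ T → pt y ∈ T → pt (x * y⁻¹) ∈ T := by
    intro T T' hT hT' hT1 hT'1
    haveI : JacobsonSpace A.left := LocallyOfFiniteType.jacobsonSpace A.hom
    have hcl : ∀ {U V : Closeds A.left}, (∀ x : Pt, pt x ∈ U → pt x ∈ V) → U ≤ V := by
      intro U V h a ha
      have : (U : Set A.left) ⊆ closure ((U : Set A.left) ∩ closedPoints A.left) :=
        (JacobsonSpace.closure_inter_closedPoints U.isClosed).ge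
      refine V.isClosed.closure_subset_iff.2 ?_ (this ha)
      rintro b ⟨hb, hbc⟩
      obtain ⟨x, rfl⟩ := exists_pt hbc
      exact h x hb
    -- `T ⊆ T * T'⁻¹`
    obtain ⟨U, hU, hUmem⟩ := exists_product K hT.prop hT'
    have hTU : T ≤ U := hcl fun x hx => by
      have := hUmem x 1 hx hT'1
      rwa [inv_one, _root_.mul_one] at this
    have hUT : U ≤ T := hT.2 hU hTU
    have hinv : ∀ y : Pt, pt y ∈ T' → pt y⁻¹ ∈ T := fun y hy => by
      have := hUT (hUmem 1 y hT1 hy)
      rwa [_root_.one_mul] at this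
    obtain ⟨W, hW, hWmem⟩ := exists_product K hT.prop hT.prop
    have hTW : T ≤ W := hcl fun x hx => by
      have := hWmem x 1 hx hT1
      rwa [inv_one, _root_.mul_one] at this
    have hWT : W ≤ T := hT.2 hW hTW
    have hmul : ∀ x y : Pt, pt x ∈ T → pt y ∈ T → pt (x * y⁻¹) ∈ T := fun x y hx hy => hWT (hWmem x y hx hy)
    refine ⟨hcl fun y hy => ?_, hmul⟩
    have := hmul 1 y⁻¹ hT1 (hinv y hy)
    rwa [_root_.one_mul, _root_.inv_inv] at this
  have h0 : Adm K ⟨{pt (1 : Pt)}, isClosed_pt _⟩ := by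
    refine ⟨isIrreducible_singleton, fun x hx => ?_⟩
    rw [range_subset_iff] at hx
    have : x = 1 := Over.OverMorphism.ext (ext_of_apply_closedPoint_eq A.hom (Over.w _) (Over.w _) hx)
    rw [this]
    exact K.one_mem
  obtain ⟨T, hT, hT0⟩ := UncountableAvoid.exists_maximal_irreducible k A.left A.hom {T | Adm K T}
    (fun T hT => hT.1) _ h0
  have hT1 : pt (1 : Pt) ∈ T := hT0 rfl
  refine ⟨⟨T, ⟨hT, hT1⟩, fun T' hT' => ?_⟩, fun T' hT' h1 => ?_⟩
  · exact le_antisymm (key T T' hT hT'.1.prop hT1 hT'.2).1 (key T' T hT'.1 hT.prop hT'.2 hT1).1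
  · exact ⟨exists_subset_of_adm K Z hK hT'.prop, (key T' T' hT' hT'.prop h1 h1).2⟩

end Groth.Agent.GrpdSubVar
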